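import Cfsg.Agent.M24.Kit
import Cfsg.Agent.GT.Basic

/-!
# A Bruhat presentation of `U₃(11)`: the order bound and the checker of the relations
-/

set_option autoImplicit false
set_option maxRecDepth 100000
set_option synthInstance.maxSize 2000

namespace Cfsg.Agent.J4V

open Cfsg.Agent.M24 Subgroup

abbrev T3 := ℕ × ℕ × ℕ

def m3 (x y : T3) : T3 := ((x.1 + y.1) % 11, (x.2.1 + y.2.1) % 11, (x.2.2 + y.2.2 + x.2.1 * y.1) % 11)
def p3 (x : T3) : ℕ → T3
  | 0 => (0, 0, 0)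
  | n + 1 => m3 (p3 x n) x
def phi (x : T3) : T3 := m3 (m3 (p3 (0, 1, 0) x.1) (p3 (3, 7, 3) x.2.1)) (p3 (0, 0, 8) x.2.2)

def rels : List (T3 × T3 × ℕ × T3) := [
  ((0, 0, 1), (0, 0, 2), 42, (0, 0, 2)), ((0, 1, 0), (6, 3, 9), 15, (5, 0, 1)), ((0, 1, 1), (0, 3, 3), 12, (0,
  3, 3)), ((0, 2, 0), (9, 4, 10), 20, (2, 5, 4)), ((1, 0, 1), (10, 3, 4), 31, (9, 8, 1)), ((1, 1, 0), (0, 8, 5),
  5, (6, 9, 9)), ((0, 1, 2), (5, 0, 3), 45, (6, 3, 0)), ((0, 2, 1), (4, 5, 6), 59, (7, 3, 9)), ((1, 0, 2), (9,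
  8, 4), 101, (10, 3, 7)), ((1, 1, 1), (3, 8, 2), 51, (4, 10, 8)), ((0, 1, 3), (4, 6, 5), 14, (7, 4, 4)), ((1,
  1, 2), (3, 7, 4), 104, (6, 2, 10)), ((1, 2, 1), (2, 8, 0), 94, (10, 5, 4)), ((1, 3, 0), (7, 7, 1), 73, (7, 2,
  6)), ((2, 0, 2), (2, 2, 1), 118, (5, 9, 0)), ((2, 2, 0), (3, 1, 6), 16, (7, 9, 6)), ((3, 1, 0), (8, 5, 0), 50,
  (7, 0, 1)), ((0, 3, 2), (5, 7, 3), 4, (6, 10, 9)), ((1, 1, 3), (7, 7, 9), 48, (7, 7, 9)), ((1, 2, 2), (0, 3,
  8), 47, (6, 9, 6)), ((2, 2, 1), (2, 0, 2), 2, (6, 8, 7)), ((3, 1, 1), (2, 9, 2), 23, (0, 10, 2)), ((1, 2, 3),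
  (2, 7, 0), 79, (8, 2, 5)), ((1, 4, 1), (10, 2, 4), 105, (9, 8, 7)), ((2, 3, 1), (7, 9, 1), 97, (3, 6, 8)),
  ((3, 3, 0), (4, 3, 0), 109, (6, 7, 0)), ((5, 1, 0), (5, 1, 0), 60, (5, 1, 0)), ((1, 1, 5), (4, 10, 9), 81, (3,
  8, 3)), ((1, 5, 1), (0, 3, 6), 55, (6, 5, 10)), ((2, 3, 2), (3, 3, 6), 89, (10, 0, 9)), ((3, 1, 3), (7, 0, 9),
  70, (8, 5, 8)), ((3, 4, 0), (2, 4, 9), 80, (1, 0, 5)), ((5, 2, 0), (5, 3, 2), 111, (4, 5, 5)), ((4, 3, 1), (0,
  10, 4), 52, (10, 3, 5))]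

def depT : ℕ := 0x1818a75561b7867545885c20c72996c89a61dc4db4a294a05c65218c5955e654441445b0c23d720e7880e65838d05d99416e16130c509e49e16045e4ce8d988c8d52132ca8db9570e40a42e780919f29e6e60d44214451e125304550770c0de76739751639d0d904269b9d008f69d38f9a572581940b3164d70cd40b98510408d20245f10e85c6636189a125c4c648715879108580f20b1a31d119a44c28728454e5a570290940124638a21f80451174d1588089452141cb79d79d61c7d76905e38dd3dd65e52619c70d3e29db95c89270c10d5671163d53648844cd2127c82e28838d838a7e060b8170e71a07e438e3c74ce8e258831278a1c634919a0e21a30d924111a29f4e69d546130576136514950a4de55a5471a36144110e318f4997947a051d38f80306550329741a55b0da7cc74b35a90d90e3a30ca85c7235861e18dc6214c104180999790f55139185f21b58b94718c6971459228cb9d324a80d9da12055480d1516490410541827a249d3068d350e5c720f6086514261e00843e09d38dc0969845593c231f30c3634441df2128c42907a19dc9588575ca3d70c11604a659f56744c8a29c66d21c51455a315b1640a43da4872813966e611941d15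b62135d5c748b15e5186d595d3144190e376169f6509476949258837236cc4143196579cd34b3d114c10d5ca35f0cb8a242362041f2980615839c291a9208d12134a760921128890515624f5c58829cf8931c604965b02765554d11d94c92108c76184b69b75f7d859064221081e6d03e695c75b39a9648dc31298c59355f8e71033457423ce38e35a2da78b85c2619575d84930410987e68204505ce6d020c4923161461e43d616419c24880999708d7845959dd44972126510648752289a7674df4d639919460279b08f0a670e5938a70418254a54165579cd7d078b48420f90a35710f89e0e76183d92869172c70418080918095534a21c920944894b25511c5c990048b68a34424e01a0000d12cd9598019411181e17466219a474259465946609a4d141475a9671e29d294a2d02ca5556d59843033458c43d62a48a43e57a28563d984a6021938e78a00e67df5665ce9c25860120251e67923cf1620242da4c918124d7c000d45c30466424000348b51631a76715f51a51d1e241b69f45305470238e81f3657d449d28e4d798378c78d49120f5ca39f10b99e41b5a565f0102c10438469129006118513264c02005886c771691c5c30000094443463a00090006157502593df9000149d48956a13137d43906436900596c72255202c54e69dc75b31698a69556769589e2de1044c528678786270285862685260b85204109e0268244484cc8e22406c01dc9c68e401b2400802cb6c71002806c001525c8c8665201040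
def dep (x : T3) : ℕ := (depT >>> (6 * (x.1 + 11 * x.2.1 + 121 * x.2.2))) % 64

theorem cover : ∀ i < 11, ∀ j < 11, ∀ k < 11, (i, j, k) = ((0, 0, 0) : T3) ∨ (∃ r ∈ rels, r.1 = (i, j, k)) ∨
    (dep (phi (i, j, k)) < dep (i, j, k) ∧ phi (i, j, k) ≠ (0, 0, 0)) := by decide +kernel

theorem cover' : ∀ i < 11, ∀ j < 11, ∀ k < 11, (i, j, k) = ((0, 0, 0) : T3) ∨ ∃ e < 11,
    p3 (i, j, k) e = (0, 0, 1) ∨ p3 (m3 (m3 (i, j, k) (1, 0, 0)) (m3 (p3 (i, j, k) 10) (10, 0, 0))) e = (0, 0, 1) ∨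
    p3 (m3 (m3 (i, j, k) (0, 1, 0)) (m3 (p3 (i, j, k) 10) (0, 10, 0))) e = (0, 0, 1) := by decide +kernel

section
variable {Γ : Type*} [Group Γ]

def nn (a b c : Γ) (x : T3) : Γ := a ^ x.1 * b ^ x.2.1 * c ^ x.2.2

structure Rel (a b c h w : Γ) : Prop where
  ba : b * a = a * b * c
  ca : c * a = a * c
  cb : c * b = b * c
  a11 : a ^ 11 = 1
  b11 : b ^ 11 = 1
  c11 : c ^ 11 = 1
  ha : h * a = b * h
  hb : h * b = nn a b c (3, 7, 3) * h
  hc : h * c = nn a b c (0, 0, 8) * h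
  ww : w * w = 1
  wh : w * h = h ^ 109 * w
  rel : ∀ r ∈ rels, w * nn a b c r.1 * w = nn a b c r.2.1 * h ^ r.2.2.1 * w * nn a b c r.2.2.2

theorem right_ind [Finite Γ] {P : Γ → Prop} {s : Set Γ} (h1 : P 1) (h : ∀ x, P x → ∀ g ∈ s, P (x * g)) {g : Γ}
    (hg : g ∈ closure s) : P g := by
  have k : ∀ x, P x → P (x * g) := by
    induction hg using closure_induction with
    | mem g hg => exact fun x hx => h x hx g hg
    | one => simp
    | mul g g' _ _ i j => exact fun x hx => mul_assoc x g g' ▸ j _ (i x hx)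
    | inv g _ i =>
      have : ∀ n : ℕ, ∀ x, P x → P (x * g ^ n) := fun n => by
        induction n with
        | zero => simp
        | succ n j => exact fun x hx => by rw [pow_succ, ← mul_assoc]; exact i _ (j x hx)
      intro x hx
      have e : g⁻¹ = g ^ (orderOf g - 1) := by
        rw [inv_eq_iff_mul_eq_one, ← pow_succ', Nat.sub_add_cancel (orderOf_pos g), pow_orderOf_eq_one]
      exact e ▸ this _ x hx
  simpa using k 1 h1

namespace Rel
variable {a b c h w : Γ} (R : Rel a b c h w)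
include R

theorem map {Δ : Type*} [Group Δ] (f : Γ →* Δ) : Rel (f a) (f b) (f c) (f h) (f w) := by
  obtain ⟨h1, h2, h3, h4, h5, h6, h7, h8, h9, h10, h11, h12⟩ := R
  refine ⟨?_, ?_, ?_, ?_, ?_, ?_, ?_, ?_, ?_, ?_, ?_, fun r hr => ?_⟩ <;> simp only [nn, ← map_mul, ← map_pow] at * <;>
    simp only [*, map_one]

theorem pa (i j : ℕ) : b ^ j * a ^ i = a ^ i * b ^ j * c ^ (j * i) := by
  have ca : Commute c a := R.ca
  have cb : Commute c b := R.cb
  have h1 : ∀ j : ℕ, b ^ j * a = a * b ^ j * c ^ j := fun j => by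
    induction j with
    | zero => simp
    | succ j ih => rw [pow_succ, mul_assoc, R.ba, ← mul_assoc, ← mul_assoc, ih, pow_succ c, mul_assoc _ _ b,
        (cb.pow_left j).eq]; simp only [mul_assoc]
  induction i with
  | zero => simp
  | succ i ih => rw [pow_succ, ← mul_assoc, ih, mul_assoc _ _ a, (ca.pow_left _).eq, ← mul_assoc, mul_assoc _ _ a, h1,
      mul_add, mul_one, add_comm, pow_add]; simp only [mul_assoc]

theorem red (x : T3) : nn a b c x = nn a b c (x.1 % 11, x.2.1 % 11, x.2.2 % 11) := by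
  simp only [nn, ← pow_eq_pow_mod _ R.a11, ← pow_eq_pow_mod _ R.b11, ← pow_eq_pow_mod _ R.c11]

theorem nn_mul (x y : T3) : nn a b c x * nn a b c y = nn a b c (m3 x y) := by
  have ca : Commute c a := R.ca
  have cb : Commute c b := R.cb
  refine Eq.trans ?_ (R.red (x.1 + y.1, x.2.1 + y.2.1, x.2.2 + y.2.2 + x.2.1 * y.1))
  simp only [nn, pow_add]
  calc _ = a ^ x.1 * (b ^ x.2.1 * a ^ y.1) * (c ^ x.2.2 * b ^ y.2.1) * c ^ y.2.2 := by
        simp only [mul_assoc]; rw [← mul_assoc (c ^ _) (a ^ _), (ca.pow_pow _ _).eq, mul_assoc]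
    _ = _ := by
        rw [R.pa, (cb.pow_pow _ _).eq]
        simp only [mul_assoc]
        rw [← mul_assoc (c ^ _) (b ^ _), (cb.pow_pow _ _).eq]
        simp only [mul_assoc, ← pow_add]
        congr 5; ring

theorem nn_pow (x : T3) (n : ℕ) : nn a b c x ^ n = nn a b c (p3 x n) := by
  induction n with
  | zero => simp [nn, p3]
  | succ n ih => rw [pow_succ, ih, R.nn_mul]; rfl

theorem h_nn (x : T3) : h * nn a b c x = nn a b c (phi x) * h := by
  have k : ∀ {u v : Γ}, h * u = v * h → ∀ n : ℕ, h * u ^ n = v ^ n * h := fun e n =>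
    (SemiconjBy.pow_right e n).eq
  rw [phi, ← R.nn_mul, ← R.nn_mul, ← R.nn_pow, ← R.nn_pow, ← R.nn_pow, nn, ← mul_assoc, ← mul_assoc,
    k (v := nn a b c (0, 1, 0)) (by simpa [nn] using R.ha), mul_assoc _ h, k R.hb, ← mul_assoc, mul_assoc _ h, k R.hc,
    ← mul_assoc]

theorem hp_nn (e : ℕ) (x : T3) : ∃ y, h ^ e * nn a b c x = nn a b c y * h ^ e := by
  induction e with
  | zero => exact ⟨x, by simp⟩
  | succ e ih => obtain ⟨y, hy⟩ := ih; exact ⟨_, by rw [pow_succ', mul_assoc, hy, ← mul_assoc, R.h_nn, mul_assoc]⟩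

theorem w_hp (e : ℕ) : w * h ^ e = h ^ (109 * e) * w := by
  rw [pow_mul]; exact (SemiconjBy.pow_right R.wh e).eq

variable (h40 : h ^ 40 = 1)
include h40

theorem nn_hp (e : ℕ) (x : T3) : ∃ y, nn a b c x * h ^ e = h ^ e * nn a b c y := by
  obtain ⟨y, hy⟩ := R.hp_nn (39 * e) x
  have k : h ^ e * h ^ (39 * e) = 1 := by rw [← pow_add, show e + 39 * e = 40 * e by ring, pow_mul, h40, one_pow]
  refine ⟨y, ?_⟩
  calc _ = h ^ e * (h ^ (39 * e) * nn a b c x) * h ^ e := by rw [← mul_assoc, k, one_mul]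
    _ = _ := by rw [hy, mul_assoc, mul_assoc, (pow_mul_comm h _ _), k, mul_one]

theorem good (n : ℕ) : ∀ i < 11, ∀ j < 11, ∀ k < 11, dep (i, j, k) < n → (i, j, k) ≠ ((0, 0, 0) : T3) →
    ∃ x e y, w * nn a b c (i, j, k) * w = nn a b c x * h ^ e * w * nn a b c y := by
  induction n with
  | zero => intro i _ j _ k _ h; omega
  | succ n ih =>
    intro i hi j hj k hk hd h0
    rcases cover i hi j hj k hk with e | ⟨r, hr, e⟩ | ⟨e1, e2⟩
    · exact absurd e h0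
    · exact ⟨_, _, _, e ▸ R.rel r hr⟩
    obtain ⟨x, e, y, k1⟩ := ih _ (Nat.mod_lt _ (by norm_num)) _ (Nat.mod_lt _ (by norm_num)) _
      (Nat.mod_lt _ (by norm_num)) (lt_of_lt_of_le e1 (Nat.le_of_lt_succ hd)) e2
    change w * nn a b c (phi (i, j, k)) * w = _ at k1
    obtain ⟨x', k2⟩ := R.hp_nn (109 * 39) x
    obtain ⟨y', k3⟩ := R.nn_hp h40 109 y
    have k4 : h ^ 39 * h = 1 := by rw [← pow_succ, h40]
    have k5 : h * w = w * h ^ 109 := by
      calc _ = w * (w * h) * w := by rw [← mul_assoc, R.ww, one_mul]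
        _ = _ := by rw [R.wh, ← mul_assoc, mul_assoc _ w w, R.ww, mul_one]
    refine ⟨x', 109 * 39 + e + 109 * 109, y', ?_⟩
    calc _ = w * h ^ 39 * (h * nn a b c (i, j, k)) * w := by rw [mul_assoc _ _ (h * _), ← mul_assoc _ h, k4, one_mul]
      _ = h ^ (109 * 39) * (w * nn a b c (phi (i, j, k)) * w) * h ^ 109 := by
          rw [R.h_nn, R.w_hp]; simp only [mul_assoc]; rw [k5]
      _ = h ^ (109 * 39) * nn a b c x * h ^ e * w * (nn a b c y * h ^ 109) := by rw [k1]; simp only [mul_assoc]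
      _ = nn a b c x' * h ^ (109 * 39) * h ^ e * (w * h ^ 109) * nn a b c y' := by rw [k2, k3]; simp only [mul_assoc]
      _ = _ := by rw [R.w_hp, pow_add, pow_add]; simp only [mul_assoc]

theorem bruhat [Finite Γ] {g : Γ} (hg : g ∈ closure {a, b, c, h, w}) :
    ∃ x e, g = nn a b c x * h ^ e ∨ ∃ y, g = nn a b c x * h ^ e * w * nn a b c y := by
  have u : ∀ y0 g, (∃ x e, g = nn a b c x * h ^ e ∨ ∃ y, g = nn a b c x * h ^ e * w * nn a b c y) →
      ∃ x e, g * nn a b c y0 = nn a b c x * h ^ e ∨ ∃ y, g * nn a b c y0 = nn a b c x * h ^ e * w * nn a b c y := by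
    rintro y0 _ ⟨x, e, rfl | ⟨y, rfl⟩⟩
    · obtain ⟨y, k⟩ := R.hp_nn e y0
      exact ⟨_, e, .inl (by rw [mul_assoc, k, ← mul_assoc, R.nn_mul])⟩
    · exact ⟨x, e, .inr ⟨_, by rw [mul_assoc, R.nn_mul]⟩⟩
  refine right_ind (P := fun g => ∃ x e, g = nn a b c x * h ^ e ∨ ∃ y, g = nn a b c x * h ^ e * w * nn a b c y)
    ⟨(0, 0, 0), 0, .inl (by simp [nn])⟩ (fun g hg s hs => ?_) hg
  simp only [Set.mem_insert_iff, Set.mem_singleton_iff] at hs
  rcases hs with rfl | rfl | rfl | rfl | rfl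
  · simpa [nn] using u (1, 0, 0) g hg
  · simpa [nn] using u (0, 1, 0) g hg
  · simpa [nn] using u (0, 0, 1) g hg
  · obtain ⟨x, e, rfl | ⟨y, rfl⟩⟩ := hg
    · exact ⟨x, e + 1, .inl (by rw [pow_succ, mul_assoc])⟩
    · obtain ⟨y', k⟩ := R.nn_hp h40 1 y
      rw [pow_one] at k
      refine ⟨x, e + 109, .inr ⟨y', ?_⟩⟩
      rw [mul_assoc, k, ← mul_assoc, mul_assoc _ w, R.wh, pow_add]; simp only [mul_assoc]
  · obtain ⟨x, e, rfl | ⟨y, rfl⟩⟩ := hg
    · exact ⟨x, e, .inr ⟨(0, 0, 0), by simp [nn]⟩⟩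
    · rw [R.red y]
      by_cases k : ((y.1 % 11, y.2.1 % 11, y.2.2 % 11) : T3) = (0, 0, 0)
      · exact ⟨x, e, .inl (by rw [k]; simp [nn, mul_assoc, R.ww])⟩
      obtain ⟨x', e', y', k1⟩ := R.good h40 _ _ (Nat.mod_lt _ (by norm_num)) _ (Nat.mod_lt _ (by norm_num)) _
        (Nat.mod_lt _ (by norm_num)) (Nat.lt_succ_self _) k
      obtain ⟨x'', k2⟩ := R.hp_nn e x'
      refine ⟨m3 x x'', e + e', .inr ⟨y', ?_⟩⟩
      calc _ = nn a b c x * h ^ e * (s * nn a b c (y.1 % 11, y.2.1 % 11, y.2.2 % 11) * s) := by simp only [mul_assoc]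
        _ = nn a b c x * (h ^ e * nn a b c x') * h ^ e' * s * nn a b c y' := by rw [k1]; simp only [mul_assoc]
        _ = _ := by rw [k2, ← R.nn_mul, pow_add]; simp only [mul_assoc]

theorem card_le [Finite Γ] : Nat.card (closure {a, b, c, h, w} : Subgroup Γ) ≤ 70915680 := by
  let n : Fin 11 × Fin 11 × Fin 11 → Γ := fun x => nn a b c (x.1, x.2.1, x.2.2)
  have hn : ∀ x, ∃ y, nn a b c x = n y := fun x =>
    ⟨(⟨_, Nat.mod_lt _ (by norm_num)⟩, ⟨_, Nat.mod_lt _ (by norm_num)⟩, ⟨_, Nat.mod_lt _ (by norm_num)⟩), R.red x⟩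
  let f : (Fin 11 × Fin 11 × Fin 11) × Fin 40 × Option (Fin 11 × Fin 11 × Fin 11) → Γ := fun x =>
    n x.1 * h ^ (x.2.1 : ℕ) * x.2.2.elim 1 fun y => w * n y
  have : ((closure {a, b, c, h, w} : Subgroup Γ) : Set Γ) ⊆ Set.range f := fun g hg => by
    obtain ⟨x, e, k⟩ := R.bruhat h40 hg
    obtain ⟨x', k1⟩ := hn x
    rw [pow_eq_pow_mod e h40, k1] at k
    rcases k with rfl | ⟨y, rfl⟩
    · exact ⟨(x', ⟨e % 40, Nat.mod_lt _ (by norm_num)⟩, none), by simp [f]⟩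
    · obtain ⟨y', k2⟩ := hn y
      exact ⟨(x', ⟨e % 40, Nat.mod_lt _ (by norm_num)⟩, some y'), by simp [f, k2, mul_assoc]⟩
  refine (Set.ncard_le_ncard this).trans ((Nat.card_le_card_of_surjective _ (Set.rangeFactorization_surjective)).trans ?_)
  simp

omit h40 in
/-- If `c ≠ 1`, a subgroup containing `a, b, c` has order divisible by `11³`. -/
theorem dvd_card [Finite Γ] (hc : c ≠ 1) {K : Subgroup Γ} (h1 : a ∈ K) (h2 : b ∈ K) (h3 : c ∈ K) :
    1331 ∣ Nat.card K := by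
  let n : Fin 11 × Fin 11 × Fin 11 → Γ := fun x => nn a b c (x.1, x.2.1, x.2.2)
  have hn : ∀ x, ∃ y, n y = nn a b c x := fun x =>
    ⟨(⟨_, Nat.mod_lt _ (by norm_num)⟩, ⟨_, Nat.mod_lt _ (by norm_num)⟩, ⟨_, Nat.mod_lt _ (by norm_num)⟩), (R.red x).symm⟩
  have one : ∀ i < 11, ∀ j < 11, ∀ k < 11, nn a b c (i, j, k) = 1 → (i, j, k) = ((0, 0, 0) : T3) := by
    intro i hi j hj k hk e
    have e1 : nn a b c (1, 0, 0) * nn a b c (10, 0, 0) = 1 := by simp [nn, ← pow_succ', R.a11]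
    have e2 : nn a b c (0, 1, 0) * nn a b c (0, 10, 0) = 1 := by simp [nn, ← pow_succ', R.b11]
    rcases cover' i hi j hj k hk with q | ⟨m, -, q | q | q⟩
    · exact q
    all_goals
      have := congrArg (nn a b c) q
      simp only [← R.nn_pow, ← R.nn_mul, e, one_pow, one_mul, e1, e2] at this
      exact absurd (by simpa [nn] using this.symm) hc
  have inv : ∀ i < 11, ∀ j < 11, ∀ k < 11, m3 (p3 (i, j, k) 10) (i, j, k) = (0, 0, 0) := by decide +kernel
  have can : ∀ i < 11, ∀ j < 11, ∀ k < 11, ∀ i' < 11, ∀ j' < 11, ∀ k' < 11,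
      m3 (p3 (i, j, k) 10) (i', j', k') = (0, 0, 0) → i = i' ∧ j = j' ∧ k = k' := by
    intro i hi j hj k hk i' hi' j' hj' k' hk' e
    have := inv i hi j hj k hk
    generalize p3 (i, j, k) 10 = z at e this
    simp only [m3, Prod.mk.injEq] at e this
    obtain rfl : i = i' := by omega
    omega
  have i2 : ∀ x : Fin 11 × Fin 11 × Fin 11, (n x)⁻¹ = nn a b c (p3 (x.1, x.2.1, x.2.2) 10) := fun x => by
    rw [inv_eq_iff_mul_eq_one, mul_eq_one_comm, R.nn_mul, inv _ x.1.2 _ x.2.1.2 _ x.2.2.2]; simp [nn]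
  have inj : Function.Injective n := fun x y e => by
    have : nn a b c (m3 (p3 (x.1, x.2.1, x.2.2) 10) (y.1, y.2.1, y.2.2)) = 1 := by
      rw [← R.nn_mul, ← i2, inv_mul_eq_one]; exact e
    obtain ⟨q1, q2, q3⟩ := can _ x.1.2 _ x.2.1.2 _ x.2.2.2 _ y.1.2 _ y.2.1.2 _ y.2.2.2
      (one _ (Nat.mod_lt _ (by norm_num)) _ (Nat.mod_lt _ (by norm_num)) _ (Nat.mod_lt _ (by norm_num)) this)
    exact Prod.ext (Fin.ext q1) (Prod.ext (Fin.ext q2) (Fin.ext q3))
  let U : Subgroup Γ :=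
    { carrier := Set.range n
      mul_mem' := by rintro _ _ ⟨x, rfl⟩ ⟨y, rfl⟩; rw [R.nn_mul]; exact hn _
      one_mem' := ⟨(0, 0, 0), by simp [n, nn]⟩
      inv_mem' := by rintro _ ⟨x, rfl⟩; rw [i2]; exact hn _ }
  have : Nat.card U = 1331 := (Nat.card_congr (Equiv.ofInjective n inj).symm).trans (by simp)
  rw [← this]
  refine card_dvd_of_le ?_
  rintro _ ⟨x, rfl⟩
  exact mul_mem (mul_mem (pow_mem h1 _) (pow_mem h2 _)) (pow_mem h3 _)

end Rel

/-- Numbers representing group elements. -/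
structure Cd (V : ℕ → Γ → Prop) (mul : ℕ → ℕ → ℕ) (one : ℕ) : Prop where
  v1 : V one 1
  vm : ∀ {a b g h}, V a g → V b h → V (mul a b) (g * h)
  fn : ∀ {a g h}, V a g → V a h → g = h

noncomputable def pwN (mul : ℕ → ℕ → ℕ) (one x n : ℕ) : ℕ :=
  Nat.rec (motive := fun _ => ℕ) one (fun _ r => force r fun r' => mul r' x) n
noncomputable def mf (mul : ℕ → ℕ → ℕ) (a b : ℕ) : ℕ := force a fun a' => force b fun b' => mul a' b'
noncomputable def nnN (mul : ℕ → ℕ → ℕ) (one a b c : ℕ) (x : T3) : ℕ :=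
  mf mul (mf mul (pwN mul one a x.1) (pwN mul one b x.2.1)) (pwN mul one c x.2.2)

/-- the relations on codes -/
def RelN (mul : ℕ → ℕ → ℕ) (one a b c h w : ℕ) : Prop :=
  (mul b a = mf mul (mul a b) c ∧ mul c a = mul a c ∧ mul c b = mul b c ∧ pwN mul one a 11 = one ∧
    pwN mul one b 11 = one ∧ pwN mul one c 11 = one ∧ mul h a = mul b h ∧
    mul h b = mf mul (nnN mul one a b c (3, 7, 3)) h ∧ mul h c = mf mul (nnN mul one a b c (0, 0, 8)) h ∧
    mul w w = one ∧ mul w h = mf mul (pwN mul one h 109) w) ∧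
  ∀ r ∈ rels, mf mul (mf mul w (nnN mul one a b c r.1)) w =
    mf mul (mf mul (mf mul (nnN mul one a b c r.2.1) (pwN mul one h r.2.2.1)) w) (nnN mul one a b c r.2.2.2)
noncomputable instance instDecRelN (mul : ℕ → ℕ → ℕ) (one a b c h w : ℕ) : Decidable (RelN mul one a b c h w) := by
  unfold RelN; infer_instance

namespace Cd
variable {V : ℕ → Γ → Prop} {mul : ℕ → ℕ → ℕ} {one : ℕ} (C : Cd V mul one)
include C

theorem vf {a b : ℕ} {g h : Γ} (h1 : V a g) (h2 : V b h) : V (mf mul a b) (g * h) := by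
  simpa [mf] using C.vm h1 h2

theorem vp {a : ℕ} {g : Γ} (h1 : V a g) (n : ℕ) : V (pwN mul one a n) (g ^ n) := by
  induction n with
  | zero => rw [pow_zero]; exact C.v1
  | succ n ih =>
    have : pwN mul one a (n + 1) = force (pwN mul one a n) fun r' => mul r' a := rfl
    rw [this, force_eq, pow_succ]; exact C.vm ih h1

theorem vn {a b c : ℕ} {g h k : Γ} (h1 : V a g) (h2 : V b h) (h3 : V c k) (x : T3) :
    V (nnN mul one a b c x) (nn g h k x) := C.vf (C.vf (C.vp h1 _) (C.vp h2 _)) (C.vp h3 _)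

theorem eq {a b : ℕ} {g h : Γ} (e : a = b) (h1 : V a g) (h2 : V b h) : g = h := C.fn h1 (e ▸ h2)

theorem rel {A B D H W : ℕ} {a b c h w : Γ} (ha : V A a) (hb : V B b) (hc : V D c) (hh : V H h) (hw : V W w)
    (R : RelN mul one A B D H W) : Rel a b c h w := by
  obtain ⟨⟨h1, h2, h3, h4, h5, h6, h7, h8, h9, h10, h11⟩, h12⟩ := R
  exact ⟨C.eq h1 (C.vm hb ha) (C.vf (C.vm ha hb) hc), C.eq h2 (C.vm hc ha) (C.vm ha hc), C.eq h3 (C.vm hc hb) (C.vm hb hc),
    C.eq h4 (C.vp ha _) C.v1, C.eq h5 (C.vp hb _) C.v1, C.eq h6 (C.vp hc _) C.v1, C.eq h7 (C.vm hh ha) (C.vm hb hh),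
    C.eq h8 (C.vm hh hb) (C.vf (C.vn ha hb hc _) hh), C.eq h9 (C.vm hh hc) (C.vf (C.vn ha hb hc _) hh),
    C.eq h10 (C.vm hw hw) C.v1, C.eq h11 (C.vm hw hh) (C.vf (C.vp hh _) hw), fun r hr =>
      C.eq (h12 r hr) (C.vf (C.vf hw (C.vn ha hb hc _)) hw)
        (C.vf (C.vf (C.vf (C.vn ha hb hc _) (C.vp hh _)) hw) (C.vn ha hb hc _))⟩

end Cd
end

end Cfsg.Agent.J4V
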